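import Cfsg.Agent.H402.Rg.Rk2
import Cfsg.Agent.H402.Rg.EvDefs

/-!
# Involutions of type `c₂` of `Sp_4(q)`, `q` even, are conjugate (helper89 for helper402)
-/

set_option autoImplicit false
set_option linter.unusedSectionVars false

namespace Cfsg.Agent.H89.Rg

open Module Matrix Cfsg Cfsg.Geo Cfsg.Agent.H402.Rg
open scoped MatrixGroups Matrix
open Cfsg.Agent.ClassicalGeometry.SympBasic

variable {F : Type} [Field F] [Fintype F] [CharP F 2]

theorem exists_sqrt (c : F) : ∃ s : F, s * s = c := by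
  obtain ⟨s, hs⟩ := FiniteField.isSquare_of_char_two (ringChar.eq F 2) c
  exact ⟨s, hs.symm⟩

/-- a symplectic basis adapted to an involution of type `c₂` -/
theorem c2_basis {g : GL (Fin 2 ⊕ Fin 2) F} (hg : IsC2 g) :
    ∃ B : B4 F 1 1, (g : Matrix _ _ F) *ᵥ B.n₁ = B.n₁ ∧ (g : Matrix _ _ F) *ᵥ B.x₁ = B.x₁ + B.n₁ ∧
      (g : Matrix _ _ F) *ᵥ B.n₂ = B.n₂ ∧ (g : Matrix _ _ F) *ᵥ B.x₂ = B.x₂ + B.n₂ := by
  obtain ⟨h1, h2, ⟨v, hv⟩, w, w', hw⟩ := hg
  have hgf := Cd.mem_spGL.1 h1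
  set N : (Fin 2 ⊕ Fin 2 → F) → (Fin 2 ⊕ Fin 2 → F) := fun x => (g : Matrix _ _ F) *ᵥ x - x with hN
  have hgx : ∀ x, (g : Matrix _ _ F) *ᵥ x = x + N x := fun x => by rw [hN]; simp
  have hneg : ∀ y : Fin 2 ⊕ Fin 2 → F, -y = y := fun y => funext fun i => by
    rw [Pi.neg_apply, CharTwo.neg_eq]
  have hgg : ∀ x : Fin 2 ⊕ Fin 2 → F, (g : Matrix (Fin 2 ⊕ Fin 2) (Fin 2 ⊕ Fin 2) F) *ᵥ
      ((g : Matrix (Fin 2 ⊕ Fin 2) (Fin 2 ⊕ Fin 2) F) *ᵥ x) = x := by
    intro x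
    rw [mulVec_mulVec, ← Units.val_mul, h2, Units.val_one, one_mulVec]
  have hNN : ∀ x, (g : Matrix _ _ F) *ᵥ N x = N x := by
    intro x
    show (g : Matrix _ _ F) *ᵥ ((g : Matrix _ _ F) *ᵥ x - x) = (g : Matrix _ _ F) *ᵥ x - x
    rw [mulVec_sub, hgg, ← neg_sub, hneg]
  have hNN' : ∀ x, N (N x) = 0 := by
    intro x
    show (g : Matrix _ _ F) *ᵥ (N x) - N x = 0
    rw [hNN, sub_self]
  have hadd : ∀ x y, N (x + y) = N x + N y := by
    intro x y
    show (g : Matrix _ _ F) *ᵥ (x + y) - (x + y) = ((g : Matrix _ _ F) *ᵥ x - x) + ((g : Matrix _ _ F) *ᵥ y - y)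
    rw [mulVec_add]
    abel
  have hsmul : ∀ (c : F) x, N (c • x) = c • N x := by
    intro c x
    show (g : Matrix _ _ F) *ᵥ (c • x) - c • x = c • ((g : Matrix _ _ F) *ᵥ x - x)
    rw [mulVec_smul, smul_sub]
  have e1 : ∀ x y, sympForm 2 F (N x) (N y) = 0 := by
    intro x y
    have h2 := hgf (N x) y
    rw [hNN, hgx y, sympForm_add_right] at h2
    exact left_eq_add.1 h2.symm
  have e2 : ∀ x y, sympForm 2 F (N x) y = sympForm 2 F (N y) x := by
    intro x y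
    have h2 := hgf x y
    rw [hgx x, hgx y, sympForm_add_right, sympForm_add_left, sympForm_add_left, e1, sympForm_swap x (N y)] at h2
    linear_combination h2
  -- the first pair
  have hv' : sympForm 2 F (N v) v ≠ 0 := by
    have e := hgx v
    rw [e, sympForm_add_left, sympForm_self, zero_add] at hv
    exact hv
  obtain ⟨c, hc⟩ := exists_sqrt (sympForm 2 F (N v) v)⁻¹
  obtain ⟨x₁, hx₁⟩ : ∃ x, sympForm 2 F (N x) x = 1 := by
    refine ⟨c • v, ?_⟩
    rw [hsmul, sympForm_smul_left, sympForm_smul_right, ← mul_assoc, hc, inv_mul_cancel₀ hv']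
  -- the second pair
  obtain ⟨z, z1, z2, z3⟩ : ∃ z, sympForm 2 F (N x₁) z = 0 ∧ sympForm 2 F x₁ z = 0 ∧ sympForm 2 F (N z) z ≠ 0 := by
    by_contra hno
    push Not at hno
    obtain ⟨fr, hu, hv⟩ := exists_fr (k := 1) (m := 2) rfl (u := N x₁) (v := x₁) hx₁
    have hz : ∀ y, N (fr.ι y) = 0 := by
      intro y
      have k1 : sympForm 2 F (N x₁) (fr.ι y) = 0 := by rw [← hu]; exact fr.uι y
      have k2 : sympForm 2 F x₁ (fr.ι y) = 0 := by
        have := fr.vι y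
        rwa [hv] at this
      have k3 := hno (fr.ι y) k1 k2
      have k4 := fr.dec (N (fr.ι y))
      rw [hu, hv, e2 (fr.ι y) x₁, k1, e1, zero_smul, zero_smul, zero_add, zero_add] at k4
      set n := fr.π (N (fr.ι y)) with hn
      by_cases hy : y = 0
      · rw [hy, map_zero]
        have := hsmul 0 0
        rwa [zero_smul, zero_smul] at this
      obtain ⟨t, ht⟩ := exists_pair hy
      have k5 := pluck y t n
      have k6 : sympForm 1 F y n = 0 := by
        rw [k4, fr.form] at k3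
        rw [sympForm_swap, k3, neg_zero]
      rw [ht, one_smul, k6, zero_smul, add_zero] at k5
      set s := sympForm 1 F n t with hs
      have k7 : N (fr.ι y) = s • fr.ι y := by rw [k4, k5, map_smul]
      have k8 := hNN' (fr.ι y)
      rw [k7, hsmul, k7] at k8
      rcases smul_eq_zero.1 k8 with h | h
      · rw [k7, h, zero_smul]
      · rw [k7, h]
    have hall : ∀ x, N x = sympForm 2 F (N x₁) x • N x₁ := by
      intro x
      have k := fr.dec x
      rw [hu, hv] at k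
      conv_lhs => rw [k]
      rw [hadd, hadd, hsmul, hsmul, hNN', hz, smul_zero, zero_add, add_zero]
    have hw2 := LinearIndependent.pair_iff.1 hw (sympForm 2 F (N x₁) w') (-(sympForm 2 F (N x₁) w)) (by
      show sympForm 2 F (N x₁) w' • N w + -(sympForm 2 F (N x₁) w) • N w' = 0
      rw [hall w, hall w', smul_smul, smul_smul, ← add_smul]
      rw [mul_comm, neg_mul, add_neg_cancel, zero_smul])
    have hw3 : N w = 0 := by
      rw [hall w, neg_eq_zero.1 hw2.2, zero_smul]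
    have hw4 := LinearIndependent.pair_iff.1 hw 1 0 (by
      show (1 : F) • N w + (0 : F) • N w' = 0
      rw [hw3, smul_zero, zero_smul, add_zero])
    exact one_ne_zero hw4.1
  obtain ⟨d, hd⟩ := exists_sqrt (sympForm 2 F (N z) z)⁻¹
  have hx₂ : sympForm 2 F (N (d • z)) (d • z) = 1 := by
    rw [hsmul, sympForm_smul_left, sympForm_smul_right, ← mul_assoc, hd, inv_mul_cancel₀ z3]
  refine ⟨⟨N x₁, x₁, N (d • z), d • z, hx₁, hx₂, e1 _ _, ?_, ?_, ?_⟩, hNN _, hgx _, hNN _, hgx _⟩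
  · rw [sympForm_smul_right, z1, mul_zero]
  · rw [e2, sympForm_smul_right, z1, mul_zero]
  · rw [sympForm_smul_right, z2, mul_zero]

/-- **involutions of type `c₂` are conjugate** -/
theorem isC2_conj {g h : GL (Fin 2 ⊕ Fin 2) F} (hg : IsC2 g) (hh : IsC2 h) : ∃ k ∈ spGL 2 F, k * g * k⁻¹ = h := by
  obtain ⟨B, g1, g2, g3, g4⟩ := c2_basis hg
  obtain ⟨B', k1, k2, k3, k4⟩ := c2_basis hh
  obtain ⟨y, hy, hyx⟩ := exists_spGL (B.map B') (B.map_form one_ne_zero one_ne_zero B')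
  refine ⟨y, hy, ?_⟩
  rw [mul_inv_eq_iff_eq_mul]
  apply Units.ext
  rw [Units.val_mul, Units.val_mul]
  have e : Matrix.toLin' ((y : Matrix (Fin 2 ⊕ Fin 2) (Fin 2 ⊕ Fin 2) F) * (g : Matrix (Fin 2 ⊕ Fin 2) (Fin 2 ⊕ Fin 2) F)) =
      Matrix.toLin' ((h : Matrix (Fin 2 ⊕ Fin 2) (Fin 2 ⊕ Fin 2) F) * (y : Matrix (Fin 2 ⊕ Fin 2) (Fin 2 ⊕ Fin 2) F)) := by
    apply B.ext one_ne_zero one_ne_zero
    · rw [Matrix.toLin'_apply, Matrix.toLin'_apply, ← mulVec_mulVec, ← mulVec_mulVec, g1, hyx, B.map_n₁ one_ne_zero, k1]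
    · rw [Matrix.toLin'_apply, Matrix.toLin'_apply, ← mulVec_mulVec, ← mulVec_mulVec, g2, mulVec_add, hyx, hyx,
        B.map_n₁ one_ne_zero, B.map_x₁ one_ne_zero, k2]
    · rw [Matrix.toLin'_apply, Matrix.toLin'_apply, ← mulVec_mulVec, ← mulVec_mulVec, g3, hyx, B.map_n₂ one_ne_zero, k3]
    · rw [Matrix.toLin'_apply, Matrix.toLin'_apply, ← mulVec_mulVec, ← mulVec_mulVec, g4, mulVec_add, hyx, hyx,
        B.map_n₂ one_ne_zero, B.map_x₂ one_ne_zero, k4]
  exact Matrix.toLin'.injective e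

end Cfsg.Agent.H89.Rg
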